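import Cfsg.Agent.M22Cover.Cover
import Cfsg.Agent.Schur.PrimePart
import Cfsg.Agent.SchurClassical.NoMult

/-!
The Schur multiplier of `M22` is cyclic of order 12.
-/

set_option autoImplicit false
set_option maxRecDepth 100000

namespace CfsgLib.M22Cover

open CfsgLib CfsgLib.Mathieu
open scoped commutatorElement

section General

universe u

variable {G : Type u} [Group G] [Finite G] {Γ : Type u} [Group Γ] [Finite Γ]

theorem not_dvd_ker_of_not_sq_dvd {σ : Γ →* G} (hσ : Cfsg.IsStemExtension σ) {p : ℕ} [Fact p.Prime]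
    (h : ¬ p ^ 2 ∣ Nat.card G) : ¬ p ∣ Nat.card σ.ker := by
  obtain ⟨P⟩ : Nonempty (Sylow p G) := inferInstance
  obtain ⟨k, hk⟩ := IsPGroup.iff_card.1 P.isPGroup'
  haveI : IsCyclic (P : Subgroup G) := by
    rcases Nat.lt_or_ge k 2 with hk2 | hk2
    · interval_cases k
      · haveI : Subsingleton (P : Subgroup G) :=
          (Nat.card_eq_one_iff_unique.1 (hk.trans (pow_zero p))).1
        exact isCyclic_of_subsingleton
      · exact isCyclic_of_prime_card (hk.trans (pow_one p))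
    · exact absurd ((pow_dvd_pow p hk2).trans (hk ▸ Subgroup.card_subgroup_dvd_card _)) h
  exact Schur.not_dvd_card_ker_of_isCyclic hσ (P : Subgroup G) P.not_dvd_index

theorem not_sq_dvd_ker_of_card {σ : Γ →* G} (hσ : Cfsg.IsStemExtension σ) {p : ℕ} [hp : Fact p.Prime]
    {k : ℕ} (hG : Nat.card G = p ^ 2 * k) (hk : ¬ p ∣ k) : ¬ p ^ 2 ∣ Nat.card σ.ker := by
  obtain ⟨P⟩ : Nonempty (Sylow p G) := inferInstance
  have hP : Nat.card (P : Subgroup G) = p ^ 2 := by
    rw [Sylow.card_eq_multiplicity, hG]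
    congr 1
    have hk0 : k ≠ 0 := fun e => hk (e ▸ dvd_zero p)
    rw [Nat.factorization_mul (pow_ne_zero _ hp.out.ne_zero) hk0, Finsupp.add_apply,
      Nat.factorization_pow, Finsupp.smul_apply, hp.out.factorization_self,
      Nat.factorization_eq_zero_of_not_dvd hk]
    simp
  by_cases hcyc : IsCyclic (P : Subgroup G)
  · intro h
    exact Schur.not_dvd_card_ker_of_isCyclic hσ (P : Subgroup G) P.not_dvd_index
      ((dvd_pow_self p two_ne_zero).trans h)
  haveI hcomm : IsMulCommutative (P : Subgroup G) := IsPGroup.isMulCommutative_of_card_eq_prime_sq hP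
  have hexp : ∀ x ∈ (P : Subgroup G), x ^ p = 1 := by
    intro x hx
    have hd : orderOf x ∣ p ^ 2 := hP ▸ Subgroup.orderOf_dvd_natCard _ hx
    obtain ⟨i, hi, hxi⟩ := (Nat.dvd_prime_pow hp.out).1 hd
    rcases Nat.lt_or_ge i 2 with hi2 | hi2
    · rw [← orderOf_dvd_iff_pow_eq_one, hxi]
      exact (pow_dvd_pow p (by omega : i ≤ 1)).trans (pow_one p).dvd
    · exfalso
      refine hcyc (isCyclic_of_orderOf_eq_card (⟨x, hx⟩ : (P : Subgroup G)) ?_)
      rw [Subgroup.orderOf_mk, hxi, hP, show i = 2 by omega]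
  have hne : (P : Subgroup G) ≠ ⊥ := fun e => by
    rw [e, Subgroup.card_bot] at hP
    exact absurd hP (Nat.ne_of_lt (Nat.one_lt_pow two_ne_zero hp.out.one_lt))
  obtain ⟨a, ha, ha1⟩ := (Subgroup.bot_or_exists_ne_one _).resolve_left hne
  have hao : orderOf a = p := orderOf_eq_prime (hexp a ha) ha1
  obtain ⟨b, hb, hba⟩ : ∃ b ∈ (P : Subgroup G), b ∉ Subgroup.zpowers a := by
    by_contra hcon
    push Not at hcon
    have := Subgroup.card_le_of_le (show (P : Subgroup G) ≤ Subgroup.zpowers a from hcon)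
    rw [hP, Nat.card_zpowers, hao] at this
    nlinarith [hp.out.two_le]
  have hle : Subgroup.closure {a, b} ≤ (P : Subgroup G) := by
    rw [Subgroup.closure_le]
    rintro x (rfl | rfl)
    exacts [ha, hb]
  have hge : (P : Subgroup G) ≤ Subgroup.closure {a, b} := by
    have hd : Nat.card (Subgroup.closure {a, b}) ∣ p ^ 2 := hP ▸ Subgroup.card_dvd_of_le hle
    obtain ⟨i, hi, hci⟩ := (Nat.dvd_prime_pow hp.out).1 hd
    rcases Nat.lt_or_ge i 2 with hi2 | hi2
    · exfalso
      have hsub : Subgroup.zpowers a ≤ Subgroup.closure {a, b} :=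
        Subgroup.zpowers_le.2 (Subgroup.subset_closure (Set.mem_insert _ _))
      have he : Subgroup.zpowers a = Subgroup.closure {a, b} := by
        refine Subgroup.eq_of_le_of_card_ge hsub ?_
        rw [hci, Nat.card_zpowers, hao]
        exact (Nat.pow_le_pow_right hp.out.pos (by omega : i ≤ 1)).trans (pow_one p).le
      exact hba (he ▸ Subgroup.subset_closure (Set.mem_insert_of_mem _ (Set.mem_singleton b)))
    · refine le_of_eq (Subgroup.eq_of_le_of_card_ge hle ?_).symm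
      rw [hP, hci, show i = 2 by omega]
  refine Schur.PrimePart.not_sq_dvd_of_commute hσ (P : Subgroup G) P.not_dvd_index hge (hexp a ha) ?_
  exact congrArg Subtype.val
    (mul_comm' (⟨a, ha⟩ : (P : Subgroup G)) ⟨b, hb⟩)

end General

theorem perfect_M22 : commutator ↥Cfsg.Spor.M22 = ⊤ := by
  haveI := isSimpleGroup_M22
  refine (Subgroup.Normal.eq_bot_or_eq_top (inferInstance : (commutator ↥Cfsg.Spor.M22).Normal)).resolve_left
    fun h => ?_
  obtain ⟨σ, hσ, hk⟩ := exists_threefold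
  have hsurj := hσ.1
  have h' : (commutator Three).map σ = ⊥ := by
    rw [commutator_def, Subgroup.map_commutator, Subgroup.map_top_of_surjective _ hsurj,
      ← commutator_def, h]
  have hle : commutator Three ≤ σ.ker := fun x hx =>
    MonoidHom.mem_ker.2 (Subgroup.mem_bot.1 (h' ▸ Subgroup.mem_map_of_mem σ hx))
  have hcomm : ∀ a b : ↥Cfsg.Spor.M22, a * b = b * a := fun a b => by
    rw [← commutatorElement_eq_one_iff_mul_comm, ← Subgroup.mem_bot, ← h, commutator_def]
    exact Subgroup.commutator_mem_commutator (Subgroup.mem_top _) (Subgroup.mem_top _)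
  haveI : Fact (Nat.Prime 11) := ⟨by norm_num⟩
  obtain ⟨g, hg⟩ := exists_prime_orderOf_dvd_card' 11
    (show 11 ∣ Nat.card ↥Cfsg.Spor.M22 by rw [card_M22]; norm_num)
  have hn : (Subgroup.zpowers g).Normal :=
    ⟨fun x hx y => by rw [hcomm y x, mul_inv_cancel_right]; exact hx⟩
  rcases hn.eq_bot_or_eq_top with e | e
  · have := Nat.card_zpowers g
    rw [hg, e, Subgroup.card_bot] at this
    norm_num at this
  · have := Nat.card_zpowers g
    rw [hg, e, Subgroup.card_top, card_M22] at this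
    norm_num at this

theorem perfect_Four : commutator Four = ⊤ := by
  obtain ⟨σ, hσ, -⟩ := exists_fourfold
  rw [eq_top_iff]
  intro g _
  have hmap : (commutator Four).map σ = ⊤ := by
    rw [commutator_def, Subgroup.map_commutator, Subgroup.map_top_of_surjective _ hσ.1,
      ← commutator_def, perfect_M22]
  obtain ⟨y, hy, hyg⟩ : σ g ∈ (commutator Four).map σ := hmap ▸ Subgroup.mem_top _
  have hk : y⁻¹ * g ∈ commutator Four := hσ.2.2 (by
    rw [MonoidHom.mem_ker, map_mul, map_inv, hyg, inv_mul_cancel])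
  simpa using (commutator Four).mul_mem hy hk

theorem card_le_four {Δ : Type} [Group Δ] [Finite Δ] {τ : Δ →* ↥Cfsg.Spor.M22}
    (hτ : Cfsg.IsStemExtension τ) (hA : IsPGroup 2 τ.ker) : Nat.card τ.ker ≤ 4 := by
  obtain ⟨q, hq, hqk⟩ := exists_fourfold
  let X : Subgroup (Δ × Four) := (τ.comp (MonoidHom.fst _ _)).eqLocus (q.comp (MonoidHom.snd _ _))
  let σ : X →* Four := (MonoidHom.snd _ _).comp X.subtype
  have hs : Function.Surjective σ := fun g => by
    obtain ⟨a, ha⟩ := hτ.1 (q g)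
    exact ⟨⟨(a, g), ha⟩, rfl⟩
  have hc : σ.ker ≤ Subgroup.center X := by
    rintro ⟨⟨a, g⟩, hag⟩ hk
    obtain rfl : g = 1 := hk
    have ha : a ∈ Subgroup.center Δ :=
      hτ.2.1 (MonoidHom.mem_ker.2 ((show τ a = q 1 from hag).trans (map_one q)))
    refine Subgroup.mem_center_iff.2 ?_
    rintro ⟨⟨b, g'⟩, hb⟩
    exact Subtype.ext (Prod.ext (Subgroup.mem_center_iff.1 ha b) (by simp))
  let D := commutator X
  have hmap : D.map σ = ⊤ := by
    simp only [D, commutator_def]
    rw [Subgroup.map_commutator, Subgroup.map_top_of_surjective _ hs, ← commutator_def, perfect_Four]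
  let σD : D →* Four := σ.comp D.subtype
  have hDs : Function.Surjective σD := fun g => by
    obtain ⟨x, hx, rfl⟩ : g ∈ D.map σ := hmap ▸ Subgroup.mem_top g
    exact ⟨⟨x, hx⟩, rfl⟩
  have hDD : commutator X ≤ ⁅D, D⁆ := by
    rw [commutator_def, Subgroup.commutator_le]
    intro a _ b _
    obtain ⟨a', ha, ea⟩ : σ a ∈ D.map σ := hmap ▸ Subgroup.mem_top _
    obtain ⟨b', hb, eb⟩ : σ b ∈ D.map σ := hmap ▸ Subgroup.mem_top _
    rw [Schur.commutator_congr hc ea.symm eb.symm]
    exact Subgroup.commutator_mem_commutator ha hb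
  have hperfD : commutator D = ⊤ := by
    apply Subgroup.map_injective D.subtype_injective
    rw [Subgroup.map_subtype_commutator, ← MonoidHom.range_eq_map, Subgroup.range_subtype]
    exact le_antisymm (Subgroup.commutator_mono le_top le_top) hDD
  have hstem : Cfsg.IsStemExtension σD := ⟨hDs, fun d hd => Subgroup.mem_center_iff.2 fun d' =>
    Subtype.ext (Subgroup.mem_center_iff.1 (hc (show (d : X) ∈ σ.ker from hd)) d'),
    by rw [hperfD]; exact le_top⟩
  have h2 := not_two_dvd_four σD hstem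
  have hinj : Function.Injective σD := by
    rw [← MonoidHom.ker_eq_bot_iff, eq_bot_iff]
    intro d hd
    have hd' : ((d : X) : Δ × Four).2 = 1 := hd
    have hk : ((d : X) : Δ × Four).1 ∈ τ.ker := MonoidHom.mem_ker.2
      (((d : X).2).trans (by show q ((d : X) : Δ × Four).2 = 1; rw [hd', map_one]))
    obtain ⟨k, hk2⟩ := hA ⟨_, hk⟩
    have hpow : (d : D) ^ 2 ^ k = 1 := Subtype.ext (Subtype.ext (Prod.ext
      (congrArg (fun t : τ.ker => (t : Δ)) hk2)
      (by show (((d : X) : Δ × Four).2) ^ 2 ^ k = 1; rw [hd', one_pow])))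
    have hn : (⟨d, hd⟩ : σD.ker) ^ Nat.card σD.ker = 1 := pow_card_eq_one'
    exact Subgroup.mem_bot.2 (SchurClassical.eq_one_of_pow_prime_pow hpow
      (congrArg Subtype.val hn) (Nat.prime_two.coprime_iff_not_dvd.2 h2))
  let φ := MulEquiv.ofBijective σD ⟨hinj, hDs⟩
  let ψ : Four →* Δ :=
    (MonoidHom.fst _ _).comp (X.subtype.comp (D.subtype.comp φ.symm.toMonoidHom))
  have hψ : ∀ g, τ (ψ g) = q g := fun g =>
    (φ.symm g).1.2.trans (congrArg q (φ.apply_symm_apply g))
  have hle : τ.ker ≤ q.ker.map ψ := by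
    intro a ha
    have hr : a ∈ ψ.range := by
      refine (show commutator Δ ≤ ψ.range from ?_) (hτ.2.2 ha)
      rw [commutator_def, Subgroup.commutator_le]
      intro a _ b _
      obtain ⟨ga, hga⟩ := hq.1 (τ a)
      obtain ⟨gb, hgb⟩ := hq.1 (τ b)
      refine ⟨⁅ga, gb⁆, ?_⟩
      rw [map_commutatorElement]
      exact Schur.commutator_congr hτ.2.1 ((hψ ga).trans hga) ((hψ gb).trans hgb)
    obtain ⟨g, rfl⟩ := hr
    exact Subgroup.mem_map_of_mem ψ ((hψ g).symm.trans (MonoidHom.mem_ker.1 ha))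
  have h1 := Subgroup.card_le_of_le hle
  have h4 : Nat.card q.ker = 4 := by rw [hqk, Nat.card_zpowers, Schur.Monomial.orderOf_zC]; rfl
  have h3 := Nat.le_of_dvd Nat.card_pos (Subgroup.card_map_dvd q.ker ψ)
  omega

theorem not_eight_dvd {Δ : Type} [Group Δ] [Finite Δ] {τ : Δ →* ↥Cfsg.Spor.M22}
    (hτ : Cfsg.IsStemExtension τ) : ¬ 8 ∣ Nat.card τ.ker := by
  intro h8
  haveI : Fact (Nat.Prime 2) := ⟨Nat.prime_two⟩
  let N : Subgroup Δ :=
    { carrier := {a | a ∈ τ.ker ∧ ¬ 2 ∣ orderOf a}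
      one_mem' := ⟨one_mem _, by rw [orderOf_one]; norm_num⟩
      mul_mem' := fun {a b} ha hb => ⟨mul_mem ha.1 hb.1, fun hdvd => by
        have hcom : Commute a b := (Subgroup.mem_center_iff.1 (hτ.2.1 ha.1) b).symm
        rcases Nat.prime_two.dvd_mul.1 (hdvd.trans hcom.orderOf_mul_dvd_mul_orderOf) with e | e
        exacts [ha.2 e, hb.2 e]⟩
      inv_mem' := fun {a} ha => ⟨inv_mem ha.1, by rw [orderOf_inv]; exact ha.2⟩ }
  have hNc : N ≤ Subgroup.center Δ := fun a ha => hτ.2.1 ha.1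
  haveI : N.Normal := ⟨fun a ha g => by
    rwa [Subgroup.mem_center_iff.1 (hNc ha) g, mul_inv_cancel_right]⟩
  have hker : N ≤ τ.ker := fun a ha => ha.1
  let τ' : Δ ⧸ N →* ↥Cfsg.Spor.M22 := QuotientGroup.lift N τ hker
  have hk' : τ'.ker = τ.ker.map (QuotientGroup.mk' N) := QuotientGroup.ker_lift N τ hker
  have hstem : Cfsg.IsStemExtension τ' := by
    refine ⟨fun g => ?_, ?_, ?_⟩
    · obtain ⟨x, rfl⟩ := hτ.1 g
      exact ⟨x, rfl⟩
    · rw [hk']
      rintro _ ⟨x, hx, rfl⟩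
      refine Subgroup.mem_center_iff.2 fun y => ?_
      obtain ⟨y, rfl⟩ := QuotientGroup.mk'_surjective N y
      rw [← map_mul, ← map_mul, Subgroup.mem_center_iff.1 (hτ.2.1 hx) y]
    · rw [hk']
      refine (Subgroup.map_mono hτ.2.2).trans ?_
      rw [commutator_def, commutator_def, Subgroup.map_commutator]
      exact Subgroup.commutator_mono le_top le_top
  have h2 : IsPGroup 2 τ'.ker := by
    rintro ⟨x, hx⟩
    rw [hk'] at hx
    obtain ⟨y, hy, rfl⟩ := hx
    obtain ⟨k, m, hm, hmo⟩ := Nat.exists_eq_two_pow_mul_odd (orderOf_pos y).ne'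
    refine ⟨k, Subtype.ext ?_⟩
    show (QuotientGroup.mk' N y) ^ 2 ^ k = 1
    rw [← map_pow, QuotientGroup.mk'_apply, QuotientGroup.eq_one_iff]
    refine ⟨pow_mem hy _, ?_⟩
    rw [orderOf_pow' _ (by positivity), hmo, Nat.gcd_eq_right (dvd_mul_right _ _),
      Nat.mul_div_cancel_left _ (by positivity)]
    exact fun h => (Nat.not_even_iff_odd.2 hm) (even_iff_two_dvd.2 h)
  have hle := card_le_four hstem h2
  have hodd : ¬ 2 ∣ Nat.card (N.subgroupOf τ.ker) := by
    intro h
    obtain ⟨a, ha⟩ := exists_prime_orderOf_dvd_card' 2 h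
    have := (a.2 : ((a : τ.ker) : Δ) ∈ N).2
    rw [Subgroup.coe_subtype, Subgroup.orderOf_coe, Subgroup.orderOf_coe, ha] at this
    exact this dvd_rfl
  have hcard : Nat.card τ'.ker * Nat.card (N.subgroupOf τ.ker) = Nat.card τ.ker := by
    let f := (QuotientGroup.mk' N).subgroupMap τ.ker
    have hfk : f.ker = N.subgroupOf τ.ker := by
      ext a
      rw [MonoidHom.mem_ker, Subgroup.mem_subgroupOf, ← QuotientGroup.eq_one_iff]
      exact ⟨fun e => congrArg Subtype.val e, fun e => Subtype.ext e⟩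
    rw [hk', ← hfk, Subgroup.card_eq_card_quotient_mul_card_subgroup f.ker,
      Nat.card_congr (QuotientGroup.quotientKerEquivOfSurjective f
        (MonoidHom.subgroupMap_surjective _ _)).toEquiv]
  have hco : Nat.Coprime 8 (Nat.card (N.subgroupOf τ.ker)) :=
    (Nat.prime_two.coprime_iff_not_dvd.2 hodd).pow_left 3
  have := Nat.le_of_dvd Nat.card_pos (hco.dvd_of_dvd_mul_right (hcard.symm ▸ h8))
  omega

theorem dvd_twelve {n : ℕ} (hn : n ≠ 0) (hp : ∀ p, p.Prime → p ≠ 2 → p ≠ 3 → ¬ p ∣ n)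
    (h8 : ¬ 8 ∣ n) (h9 : ¬ 9 ∣ n) : n ∣ 12 := by
  rw [Nat.dvd_iff_prime_pow_dvd_dvd]
  intro p k hpp hk
  rcases Nat.eq_zero_or_pos k with rfl | hk0
  · simp
  by_cases e2 : p = 2
  · subst e2
    have : k ≤ 2 := by
      by_contra hne
      exact h8 ((pow_dvd_pow 2 (by omega : 3 ≤ k)).trans hk)
    interval_cases k <;> norm_num
  by_cases e3 : p = 3
  · subst e3
    have : k ≤ 1 := by
      by_contra hne
      exact h9 ((pow_dvd_pow 3 (by omega : 2 ≤ k)).trans hk)
    interval_cases k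
    norm_num
  exact absurd ((dvd_pow_self p hk0.ne').trans hk) (hp p hpp e2 e3)

theorem multiplier_M22 : Cfsg.HasCyclicSchurMultiplier ↥Cfsg.Spor.M22 12 := by
  have hM := SchurMult.hasSchurMultiplier_mult (Q := ↥Cfsg.Spor.M22)
  obtain ⟨⟨Δ, _, _, τ, hτ, ⟨e⟩⟩, hup⟩ := id hM
  have hd : Nat.card (SchurMult.Mult ↥Cfsg.Spor.M22) ∣ 12 := by
    rw [← Nat.card_congr e.toEquiv]
    refine dvd_twelve Nat.card_pos.ne' (fun p hp h2 h3 => ?_) (not_eight_dvd hτ) ?_
    · haveI := Fact.mk hp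
      refine not_dvd_ker_of_not_sq_dvd hτ fun h => ?_
      rw [card_M22] at h
      have hle : p ≤ 666 := by
        have := Nat.le_of_dvd (by norm_num) h
        nlinarith
      have key : ∀ p ∈ Finset.range 667, p ^ 2 ∣ 443520 → p.Prime → p = 2 ∨ p = 3 := by
        decide +kernel
      rcases key p (Finset.mem_range.2 (by omega)) h hp with e | e
      exacts [h2 e, h3 e]
    · haveI : Fact (Nat.Prime 3) := ⟨Nat.prime_three⟩
      exact not_sq_dvd_ker_of_card hτ (p := 3) (k := 49280) (by rw [card_M22]; norm_num) (by norm_num)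
  obtain ⟨q4, hq4, hk4⟩ := exists_fourfold
  obtain ⟨q3, hq3, hk3⟩ := exists_threefold
  have c4 : Nat.card q4.ker = 4 := by rw [hk4, Nat.card_zpowers, Schur.Monomial.orderOf_zC]; rfl
  have c3 : Nat.card q3.ker = 3 := by rw [hk3, Nat.card_zpowers, Schur.Monomial.orderOf_zC]; rfl
  have d4 : 4 ∣ Nat.card (SchurMult.Mult ↥Cfsg.Spor.M22) :=
    c4 ▸ SchurMult.card_stem_ker_dvd hM hq4
  have d3 : 3 ∣ Nat.card (SchurMult.Mult ↥Cfsg.Spor.M22) :=
    c3 ▸ SchurMult.card_stem_ker_dvd hM hq3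
  have h12 : Nat.card (SchurMult.Mult ↥Cfsg.Spor.M22) = 12 :=
    Nat.dvd_antisymm hd ((show Nat.Coprime 4 3 by norm_num).mul_dvd_of_dvd_of_dvd d4 d3)
  haveI := SchurMult.finite_of_hasSchurMultiplier hM
  haveI : IsCyclic (SchurMult.Mult ↥Cfsg.Spor.M22) := by
    refine IsCyclic.of_exponent_eq_card ?_
    refine Nat.dvd_antisymm Group.exponent_dvd_nat_card ?_
    rw [h12]
    refine (show Nat.Coprime 4 3 by norm_num).mul_dvd_of_dvd_of_dvd ?_ ?_
    · obtain ⟨π, hπ⟩ := hup Four q4 hq4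
      have hz : Schur.Monomial.zC T4_check ∈ q4.ker := hk4 ▸ Subgroup.mem_zpowers _
      obtain ⟨x, hx⟩ := hπ ⟨_, hz⟩
      have ho : orderOf (⟨_, hz⟩ : q4.ker) = 4 := by
        rw [← Subgroup.orderOf_coe, Schur.Monomial.orderOf_zC]; rfl
      exact (ho ▸ hx ▸ orderOf_map_dvd π x).trans (Monoid.order_dvd_exponent x)
    · haveI : Fact (Nat.Prime 3) := ⟨Nat.prime_three⟩
      obtain ⟨x, hx⟩ := exists_prime_orderOf_dvd_card' 3 d3
      exact hx ▸ Monoid.order_dvd_exponent x
  exact SchurMult.hasSchurMultiplier_congr_right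
    (mulEquivOfCyclicCardEq (by rw [h12, Nat.card_eq_fintype_card]; simp)) hM

end CfsgLib.M22Cover
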