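import Cfsg.Agent.M22Cover.Data
import Cfsg.Agent.M22Cover.Step2.Upper
import Cfsg.Agent.M22Cover.Step3.Upper
import Cfsg.Agent.M22Cover.Step4.Upper
import Cfsg.Agent.M22Cover.Step5.Upper
import Cfsg.Agent.M22Cover.Step6.Upper
import Cfsg.Agent.CosetEnum.Present
import Cfsg.Agent.Mathieu.Multiplier
import Cfsg.Agent.Mathieu.Simple

/-!
Six involutions generating `M22` with relators bounding every group they generate by 443520.
-/

set_option autoImplicit false
set_option maxRecDepth 100000

namespace CfsgLib.M22Cover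

open CfsgLib.CosetEnum Cfsg CfsgLib.Golay CfsgLib.Mathieu CfsgLib.Mathieu.Code
open scoped Pointwise

attribute [local irreducible] enc cmpC idC code permOf gens rels trans0 trans1 trans2 trans3 trans4

section Bound

variable {Q : Type} [Group Q] (v : ℕ → Q)

/-- The subgroup generated by an initial segment. -/
def initSeg (m : ℕ) : Subgroup Q := Subgroup.closure {z | ∃ x < m, v x = z}

/-- The conditions on the certificate words, `m + 1` letters over `m`. -/
def stepWords (C : CertData) (m : ℕ) : Bool :=
  wordsFrom (fun y => y) rels (C.words.take C.nr) &&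
    (C.words.take C.nr).all (fun w => w.all (fun x => x.blt (m + 1))) &&
    (C.words.drop C.nr).all (fun w => w.all (fun x => x.blt m))

theorem rels_lt : rels.all (fun w => w.all fun x => x.blt 6) = true := by decide +kernel

theorem rels_sq : (List.range 6).all (fun x => rels.contains [x, x]) = true := by decide +kernel

theorem involution_of_rels (hv : ∀ w ∈ rels, gword v w = 1) : ∀ x < 6, v x * v x = 1 := by
  intro x hx
  simpa [gword] using hv _ (List.contains_iff_mem.1 (List.all_eq_true.1 rels_sq x (List.mem_range.2 hx)))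

theorem initSeg_step (hv : ∀ w ∈ rels, gword v w = 1) {C : CertData} {N m b c n : ℕ}
    (hL : C.L = m + 1) (hiv : ∀ x, C.iv x = x) (hN : FactsChecked C.ep C.iv C.words C.nr N)
    (hpos : 0 < C.n) (h0 : C.node 0 = 0)
    (hrow : ∀ i < C.n, checkRow C.ep C.iv N C.L C.node C.T C.tf C.n i = true) (hn : C.n = n)
    (h : stepWords C m = true) (hm : m + 1 ≤ 6)
    (hb : Nat.card (initSeg v m) ≤ b ∧ Nat.card (initSeg v m) ≠ 0) (hc : n * b = c) :
    Nat.card (initSeg v (m + 1)) ≤ c ∧ Nat.card (initSeg v (m + 1)) ≠ 0 := by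
  simp only [stepWords, Bool.and_eq_true, List.all_eq_true, Nat.blt, Nat.ble_eq] at h
  obtain ⟨⟨h1, h2⟩, h3⟩ := h
  have hsq := involution_of_rels v hv
  have hinv : ∀ (L : ℕ), L ≤ 6 → ∀ x, letterVal L v x = (letterVal L v x)⁻¹ := fun L hL' x =>
    letterVal_inv L v (fun y => y)
      (fun y hy => ⟨hy, (inv_eq_of_mul_eq_one_right (hsq y (by omega))).symm⟩) (fun _ hy => hy) x
  have hrels6 : ∀ w ∈ rels, gword (letterVal 6 v) w = 1 := fun w hw => by
    rw [gword_letterVal v fun x hx => ?_]
    · exact hv w hw
    · have := List.all_eq_true.1 (List.all_eq_true.1 rels_lt w hw) x hx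
      simpa [Nat.blt, Nat.ble_eq] using this
  have hrel : ∀ (k : ℕ) (w : List ℕ), C.words[k]? = some w → k < C.nr →
      gword (letterVal (m + 1) v) w = 1 := by
    intro k w hk hlt
    have hw : w ∈ C.words.take C.nr :=
      List.mem_of_getElem? (i := k) (by rw [List.getElem?_take, if_pos hlt, hk])
    rw [← gword_of_wordsFrom (letterVal 6 v) (fun y => y) (hinv 6 le_rfl) h1 hrels6 w hw]
    exact gword_congr _ _ fun x hx => by
      have hxm : x < m + 1 := h2 w hw x hx
      rw [letterVal_lt v hxm, letterVal_lt v (lt_of_lt_of_le hxm hm)]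
  have hsub : ∀ (k : ℕ) (w : List ℕ), C.words[k]? = some w →
      gword (letterVal (m + 1) v) w ∈ initSeg v m := by
    intro k w hk
    by_cases hlt : k < C.nr
    · rw [hrel k w hk hlt]; exact one_mem _
    · have hw : w ∈ C.words.drop C.nr :=
        List.mem_of_getElem? (i := k - C.nr)
          (by rw [List.getElem?_drop, show C.nr + (k - C.nr) = k by omega, hk])
      refine gword_mem _ _ fun x hx => ?_
      have hxm : x < m := h3 w hw x hx
      rw [letterVal_lt v (Nat.lt_succ_of_lt hxm)]
      exact Subgroup.subset_closure ⟨x, hxm, rfl⟩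
  have hr := relIndex_le hN hpos h0 hrow (initSeg v m) (letterVal (m + 1) v)
    (fun x => by rw [hiv]; exact hinv _ hm x) hrel hsub
  have hseg : Subgroup.closure {a | ∃ x < C.L, letterVal (m + 1) v x = a} = initSeg v (m + 1) := by
    rw [hL]
    refine congrArg Subgroup.closure (Set.ext fun z => ?_)
    constructor <;> rintro ⟨x, hx, rfl⟩ <;> exact ⟨x, hx, by rw [letterVal_lt v hx]⟩
  rw [hseg, hn] at hr
  have := Subgroup.relIndex_mul_relIndex ⊥ (initSeg v m) (initSeg v (m + 1)) bot_le
    (Subgroup.closure_mono fun _ ⟨x, hx, e⟩ => ⟨x, Nat.lt_succ_of_lt hx, e⟩)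
  rw [Subgroup.relIndex_bot_left, Subgroup.relIndex_bot_left] at this
  rw [← this, ← hc]
  exact ⟨(Nat.mul_le_mul hb.1 hr.1).trans (le_of_eq (Nat.mul_comm _ _)),
    Nat.mul_ne_zero hb.2 hr.2⟩

/-- Any group generated by six elements with these relations has order at most 443520. -/
theorem card_initSeg_le (hv : ∀ w ∈ rels, gword v w = 1) :
    Nat.card (initSeg v 6) ≤ 443520 ∧ Nat.card (initSeg v 6) ≠ 0 := by
  have h1 : Nat.card (initSeg v 1) ≤ 2 ∧ Nat.card (initSeg v 1) ≠ 0 := by
    have : initSeg v 1 = Subgroup.zpowers (v 0) := by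
      rw [Subgroup.zpowers_eq_closure, initSeg]
      exact congrArg Subgroup.closure (Set.ext fun z =>
        ⟨fun ⟨x, hx, e⟩ => by rw [Nat.lt_one_iff.1 hx] at e; exact e.symm,
          fun e => ⟨0, Nat.one_pos, e.symm⟩⟩)
    rw [this, Nat.card_zpowers]
    have hd : orderOf (v 0) ∣ 2 :=
      orderOf_dvd_of_pow_eq_one (by rw [pow_two, involution_of_rels v hv 0 (by norm_num)])
    exact ⟨Nat.le_of_dvd (by norm_num) hd, fun h0 => by rw [h0] at hd; norm_num at hd⟩
  have h2 := initSeg_step (m := 1) (n := 5) (c := 10) v hv rfl (fun _ => rfl) Step2.facts Step2.n_pos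
    Step2.node_zero Step2.rows rfl (by decide +kernel) (by norm_num) h1 (by norm_num)
  have h3 := initSeg_step (m := 2) (n := 6) (c := 60) v hv rfl (fun _ => rfl) Step3.facts Step3.n_pos
    Step3.node_zero Step3.rows rfl (by decide +kernel) (by norm_num) h2 (by norm_num)
  have h4 := initSeg_step (m := 3) (n := 16) (c := 960) v hv rfl (fun _ => rfl) Step4.facts
    Step4.n_pos Step4.node_zero Step4.rows rfl (by decide +kernel) (by norm_num) h3 (by norm_num)
  have h5 := initSeg_step (m := 4) (n := 21) (c := 20160) v hv rfl (fun _ => rfl) Step5.facts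
    Step5.n_pos Step5.node_zero Step5.rows rfl (by decide +kernel) (by norm_num) h4 (by norm_num)
  exact initSeg_step (m := 5) (n := 22) v hv rfl (fun _ => rfl) Step6.facts Step6.n_pos
    Step6.node_zero Step6.rows rfl (by decide +kernel) (by norm_num) h5 (by norm_num)

end Bound

theorem gens_ok : Multiplier.allOK gens = true ∧ gens.length = 6 := by decide +kernel

theorem gens_mem : ∀ k < gens.length, Multiplier.permAt gens k ∈ Spor.M22 := by
  have key : ∀ k < 6, (∀ b ∈ basisMasks,
        inCode (toMask (Multiplier.permAt gens k • ofMask b)) = true) ∧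
      Multiplier.permAt gens k none = none ∧ Multiplier.permAt gens k (some 0) = some 0 := by
    decide +kernel
  have hl := gens_ok.2
  exact fun k hk => ⟨⟨mem_M24_iff.mpr (key k (hl ▸ hk)).1,
    MulAction.mem_stabilizer_iff.mpr (key k (hl ▸ hk)).2.1⟩,
    MulAction.mem_stabilizer_iff.mpr (key k (hl ▸ hk)).2.2⟩

/-- A generator. -/
def genM (x : ℕ) : ↥Spor.M22 := ⟨Multiplier.permAt gens x, Multiplier.permAt_mem gens_mem x⟩

theorem code_gword (w : List ℕ) :
    code ((gword genM w : ↥Spor.M22) : Equiv.Perm GolayPt) = Multiplier.codeWd gens w := by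
  induction w with
  | nil => rw [gword_nil, Subgroup.coe_one, code_one, Multiplier.codeWd_nil]
  | cons k w ih =>
    rw [gword_cons, Subgroup.coe_mul, code_mul, ih, Multiplier.codeWd_cons]
    show cmpC (code (Multiplier.permAt gens k)) _ = _
    rw [Multiplier.code_permAt gens_ok.1]

theorem genM_rels : ∀ w ∈ rels, gword genM w = 1 := by
  have key : rels.all (fun w => Multiplier.codeWd gens w == idC) = true := by decide +kernel
  intro w hw
  refine Subtype.ext (code_injective ?_)
  rw [code_gword, Subgroup.coe_one, code_one]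
  exact beq_iff_eq.1 (List.all_eq_true.1 key w hw)

/-- The image of a point under a word. -/
def apWord : List ℕ → ℕ → ℕ
  | [], i => i
  | x :: w, i => ap (gens.getD x (0, 0)).1 (apWord w i)

theorem apply_gword {w : List ℕ} (hw : w.all (fun x => decide (x < 6)) = true) (i : ℕ)
    (hi : i < 24) :
    p2i (((gword genM w : ↥Spor.M22) : Equiv.Perm GolayPt) (i2p i)) = apWord w i := by
  induction w with
  | nil => exact p2i_i2p i hi
  | cons k w ih =>
    simp only [List.all_cons, Bool.and_eq_true, decide_eq_true_eq] at hw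
    rw [gword_cons, Subgroup.coe_mul, Equiv.Perm.mul_apply, apWord, ← ih hw.2]
    show p2i (Multiplier.permAt gens k _) = _
    rw [← ap_code', Multiplier.code_permAt gens_ok.1,
      List.getD_eq_getElem _ _ (gens_ok.2.symm ▸ hw.1),
      List.getD_eq_getElem _ _ (gens_ok.2.symm ▸ hw.1)]

/-- The transversals. -/
def transAt : ℕ → List (List ℕ)
  | 0 => trans0
  | 1 => trans1
  | 2 => trans2
  | 3 => trans3
  | _ => trans4

/-- The transversal words use six letters, fix the earlier base points and separate the present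
one. -/
def transOK (k : ℕ) : Bool :=
  (transAt k).all (fun w => w.all (fun x => decide (x < 6)) &&
    (List.range k).all (fun j => apWord w (basePts.getD j 0) == basePts.getD j 0)) &&
    decide ((transAt k).map fun w => apWord w (basePts.getD k 0)).Nodup

theorem trans_checks : (List.range 5).all transOK = true ∧
    (List.range 5).map (fun k => (transAt k).length) = [22, 21, 20, 16, 3] ∧
    basePts.all (fun i => decide (i < 24)) = true ∧ basePts.length = 5 := by
  decide +kernel

theorem genM_top : initSeg genM 6 = ⊤ := by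
  obtain ⟨hok, hlen, hb, hbl⟩ := trans_checks
  set K := initSeg genM 6
  let el : ℕ → List ℕ → ↥Spor.M22 := fun _ w => gword genM w
  have hmem : ∀ w : List ℕ, w.all (fun x => decide (x < 6)) = true → gword genM w ∈ K :=
    fun w hw => gword_mem K _ fun x hx =>
      Subgroup.subset_closure ⟨x, of_decide_eq_true (List.all_eq_true.1 hw x hx), rfl⟩
  let b : ℕ → GolayPt := fun k => i2p (basePts.getD k 0)
  -- the elements fixing the first base points
  let Kf : ℕ → Set ↥Spor.M22 := fun k =>
    {g | g ∈ K ∧ ∀ j < k, (g : Equiv.Perm GolayPt) (b j) = b j}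
  have hstep : ∀ k < 5, (transAt k).length * (Kf (k + 1)).ncard ≤ (Kf k).ncard := by
    intro k hk
    have hk' := List.all_eq_true.1 hok k (List.mem_range.2 hk)
    simp only [transOK, Bool.and_eq_true, List.all_eq_true (l := transAt k),
      List.all_eq_true (l := List.range k), List.mem_range, beq_iff_eq, decide_eq_true_eq] at hk'
    obtain ⟨hw, hnd⟩ := hk'
    have hblt : ∀ j, j < 5 → basePts.getD j 0 < 24 := fun j hj => by
      rw [List.getD_eq_getElem _ _ (hbl.symm ▸ hj)]
      exact of_decide_eq_true (List.all_eq_true.1 hb _ (List.getElem_mem _))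
    let f : Fin (transAt k).length × ↥(Kf (k + 1)) → ↥(Kf k) := fun p =>
      ⟨gword genM (transAt k)[p.1.val] * p.2.1,
        mul_mem (hmem _ (hw _ (List.getElem_mem _)).1) p.2.2.1, fun j hj => by
          rw [Subgroup.coe_mul, Equiv.Perm.mul_apply, p.2.2.2 j (Nat.lt_succ_of_lt hj)]
          refine p2i_injective ?_
          rw [show b j = i2p (basePts.getD j 0) from rfl,
            apply_gword (hw _ (List.getElem_mem _)).1 _ (hblt j (by omega)),
            (hw _ (List.getElem_mem _)).2 j hj, p2i_i2p _ (hblt j (by omega))]⟩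
    have hf : Function.Injective f := by
      rintro ⟨i, g⟩ ⟨i', g'⟩ e
      have e' : gword genM (transAt k)[i.val] * g.1 = gword genM (transAt k)[i'.val] * g'.1 :=
        congrArg Subtype.val e
      have e2 := congrArg (fun x : ↥Spor.M22 => p2i ((x : Equiv.Perm GolayPt) (b k))) e'
      simp only [Subgroup.coe_mul, Equiv.Perm.mul_apply, g.2.2 k (Nat.lt_succ_self k),
        g'.2.2 k (Nat.lt_succ_self k)] at e2
      rw [apply_gword (hw _ (List.getElem_mem _)).1 _ (hblt k hk),
        apply_gword (hw _ (List.getElem_mem _)).1 _ (hblt k hk)] at e2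
      obtain rfl : i = i' := Fin.ext ((List.Nodup.getElem_inj_iff hnd (hi := by simp)
        (hj := by simp)).1 (by rw [List.getElem_map, List.getElem_map]; exact e2))
      exact Prod.ext rfl (Subtype.ext (mul_left_cancel e'))
    have := Nat.card_le_card_of_injective f hf
    rwa [Nat.card_prod, Nat.card_fin, Nat.card_coe_set_eq, Nat.card_coe_set_eq] at this
  have h5 : 1 ≤ (Kf 5).ncard := (Set.ncard_pos (Set.toFinite _)).2 ⟨1, one_mem K, fun j _ => rfl⟩
  have hl : ∀ k < 5, (transAt k).length = [22, 21, 20, 16, 3].getD k 0 := fun k hk => by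
    rw [← hlen, List.getD_eq_getElem _ _ (by simpa using hk)]; simp
  have s0 := hstep 0 (by norm_num)
  have s1 := hstep 1 (by norm_num)
  have s2 := hstep 2 (by norm_num)
  have s3 := hstep 3 (by norm_num)
  have s4 := hstep 4 (by norm_num)
  rw [hl 0 (by norm_num)] at s0
  rw [hl 1 (by norm_num)] at s1
  rw [hl 2 (by norm_num)] at s2
  rw [hl 3 (by norm_num)] at s3
  rw [hl 4 (by norm_num)] at s4
  simp only [List.getD_cons_zero, List.getD_cons_succ] at s0 s1 s2 s3 s4
  have hK : (Kf 0).ncard ≤ Nat.card K := by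
    rw [show Nat.card K = (K : Set ↥Spor.M22).ncard from Nat.card_coe_set_eq _]
    exact Set.ncard_le_ncard (fun g hg => hg.1) (Set.toFinite _)
  refine Subgroup.eq_top_of_le_card _ ?_
  rw [card_M22]
  nlinarith

end CfsgLib.M22Cover
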