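import Cfsg.Agent.M22Cover.Model
import Cfsg.Agent.Schur.Monomial
import Cfsg.Agent.Schur.TwoCert

/-!
The fourfold and the triple cover of `M22` as monomial groups, and the Sylow 2-certificate of the
fourfold cover.
-/

set_option autoImplicit false
set_option maxRecDepth 100000

noncomputable section

namespace CfsgLib.M22Cover

open CfsgLib.CosetEnum Cfsg CfsgLib.Mathieu CfsgLib.Schur
open scoped commutatorElement

attribute [local irreducible] fourFwd fourBwd threeFwd threeBwd eltFwd eltWords twoWords cert

/-- The tables of the fourfold cover. -/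
def T4 : Monomial.Tables := ⟨1232, 4, 7, fun x => fourFwd.getD x 0, fun x => fourBwd.getD x 0⟩

/-- The tables of the triple cover. -/
def T3 : Monomial.Tables := ⟨231, 3, 7, fun x => threeFwd.getD x 0, fun x => threeBwd.getD x 0⟩

theorem T4_check : Monomial.check T4 = true := by decide +kernel

theorem T3_check : Monomial.check T3 = true := by decide +kernel

/-- The fourfold cover. -/
abbrev Four : Type := ↥(Monomial.Gam T4_check)

/-- The triple cover. -/
abbrev Three : Type := ↥(Monomial.Gam T3_check)

instance finite_Four : Finite Four := Monomial.finite_Gam T4_check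

instance finite_Three : Finite Three := Monomial.finite_Gam T3_check

theorem exists_fourfold : ∃ σ : Four →* ↥Spor.M22, Cfsg.IsStemExtension σ ∧
    σ.ker = Subgroup.zpowers (Monomial.zC T4_check) := by
  haveI := isSimpleGroup_M22
  exact Monomial.exists_stem T4_check genM rels genM_rels genM_top
    (fun Q _ v hv => by
      rw [card_M22]
      exact card_initSeg_le v hv)
    (by decide +kernel) (by decide +kernel) (wa := fourA) (wb := fourB) (by decide +kernel)
    (by decide +kernel) (by decide +kernel)

theorem exists_threefold : ∃ σ : Three →* ↥Spor.M22, Cfsg.IsStemExtension σ ∧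
    σ.ker = Subgroup.zpowers (Monomial.zC T3_check) := by
  haveI := isSimpleGroup_M22
  exact Monomial.exists_stem T3_check genM rels genM_rels genM_top
    (fun Q _ v hv => by
      rw [card_M22]
      exact card_initSeg_le v hv)
    (by decide +kernel) (by decide +kernel) (wa := threeA) (wb := threeB) (by decide +kernel)
    (by decide +kernel) (by decide +kernel)

theorem card_Four : Nat.card Four = 1774080 := by
  obtain ⟨σ, hσ, hk⟩ := exists_fourfold
  rw [Subgroup.card_eq_card_quotient_mul_card_subgroup σ.ker,
    Nat.card_congr (QuotientGroup.quotientKerEquivOfSurjective σ hσ.1).toEquiv, card_M22, hk,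
    Nat.card_zpowers, Monomial.orderOf_zC]
  rfl

/-- The entry of a chosen element at a point. -/
def eltEntry (k i : ℕ) : ℕ × ℕ :=
  (Monomial.word16 (eltFwd.getD k 0) i / 4, Monomial.word16 (eltFwd.getD k 0) i % 4)

/-- The effect of a word in the chosen elements. -/
def runE : List ℕ → ℕ → ℕ × ℕ
  | [], i => (i, 0)
  | k :: w, i =>
    match runE w i with
    | (j, s) => ((eltEntry k j).1, (s + (eltEntry k j).2) % 4)

/-- A chosen element. -/
def eltG (k : ℕ) : Four := gword (Monomial.letterG T4_check) (eltWords.getD k [])

theorem elt_checks : eltWords.all (fun w => w.all fun x => decide (x < T4.L)) = true ∧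
    eltWords.length = 12 ∧
    (List.range 12).all (fun k => (List.range T4.n).all fun i =>
      Monomial.evalN T4 (eltWords.getD k []) i == eltEntry k i) = true ∧
    (List.range 12).all (fun k => (List.range T4.n).all fun i =>
      decide ((eltEntry k i).1 < T4.n)) = true := by
  decide +kernel

theorem gword_elt {w : List ℕ} (hw : w.all (fun k => decide (k < 12)) = true)
    (p : Fin T4.n × ZMod T4.m) :
    (((gword eltG w : Four) : Equiv.Perm _) p).1.val = (runE w p.1).1 ∧
    (((gword eltG w : Four) : Equiv.Perm _) p).2 = p.2 + ((runE w p.1).2 : ZMod T4.m) := by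
  induction w with
  | nil => exact ⟨rfl, by simp [gword_nil, runE]⟩
  | cons k w ih =>
    simp only [List.all_cons, Bool.and_eq_true, decide_eq_true_eq] at hw
    obtain ⟨i1, i2⟩ := ih hw.2
    obtain ⟨h1, h2, h3, -⟩ := elt_checks
    have hlt : ∀ x ∈ eltWords.getD k [], x < T4.L := by
      rw [List.getD_eq_getElem _ _ (h2.symm ▸ hw.1)]
      exact fun x hx => of_decide_eq_true
        (List.all_eq_true.1 (List.all_eq_true.1 h1 _ (List.getElem_mem _)) x hx)
    set q := ((gword eltG w : Four) : Equiv.Perm _) p
    have he : Monomial.evalN T4 (eltWords.getD k []) q.1 = eltEntry k q.1 := beq_iff_eq.1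
      (List.all_eq_true.1 (List.all_eq_true.1 h3 k (List.mem_range.2 hw.1)) q.1
        (List.mem_range.2 q.1.2))
    rw [gword_cons, Subgroup.coe_mul, Equiv.Perm.mul_apply]
    obtain ⟨a1, a2⟩ := Monomial.gword_apply T4_check hlt q
    rw [he] at a1 a2
    refine ⟨?_, ?_⟩
    · show _ = (eltEntry k (runE w p.1).1).1
      rw [← i1]; exact a1
    · show _ = p.2 + ((((runE w p.1).2 + (eltEntry k (runE w p.1).1).2) % T4.m : ℕ) : ZMod T4.m)
      rw [ZMod.natCast_mod, Nat.cast_add, ← add_assoc, ← i1, ← i2]
      exact a2

theorem cert_n : cert.n = 9 := by decide +kernel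

theorem cert_ok : Schur.TwoCert.ok cert = true := by decide +kernel

theorem cert_rules : (List.range cert.rules.length).all (fun r =>
    (cert.rules.getD r ([], [])).1.all (fun k => decide (k < 12)) &&
    (cert.rules.getD r ([], [])).2.all (fun k => decide (k < 12)) &&
    (List.range T4.n).all fun i =>
      runE (cert.rules.getD r ([], [])).1 i == runE (cert.rules.getD r ([], [])).2 i) = true := by
  decide +kernel

theorem two_checks : twoWords.all (fun w => w.all fun k => decide (k < 9)) = true ∧
    twoWords.length = 512 ∧ twoBase.all (fun b => decide (b < T4.n)) = true ∧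
    ((List.range 511).all fun i =>
      decide (twoBase.foldr (fun b s => 4 * (runE (twoWords.getD i []) b).1 +
          (runE (twoWords.getD i []) b).2 + 65536 * s) 0 <
        twoBase.foldr (fun b s => 4 * (runE (twoWords.getD (i + 1) []) b).1 +
          (runE (twoWords.getD (i + 1) []) b).2 + 65536 * s) 0)) = true := by
  decide +kernel

theorem runE_lt : ∀ (w : List ℕ) (i : ℕ), (runE w i).2 < 4 ∨ w = [] := by
  intro w i
  cases w with
  | nil => exact Or.inr rfl
  | cons k w => exact Or.inl (Nat.mod_lt _ (by norm_num))

theorem not_two_dvd_four {Δ : Type} [Group Δ] [Finite Δ] (σ : Δ →* Four)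
    (hσ : Cfsg.IsStemExtension σ) : ¬ 2 ∣ Nat.card σ.ker := by
  have hrel : ∀ r < cert.rules.length, Schur.TwoCert.evalW eltG (cert.rules.getD r ([], [])).1 =
      Schur.TwoCert.evalW eltG (cert.rules.getD r ([], [])).2 := by
    intro r hr
    have h' := List.all_eq_true.1 cert_rules r (List.mem_range.2 hr)
    rw [Bool.and_eq_true, Bool.and_eq_true] at h'
    obtain ⟨⟨hu, hw⟩, he⟩ := h'
    simp only [List.all_eq_true (l := List.range T4.n), List.mem_range, beq_iff_eq] at he
    show gword eltG _ = gword eltG _
    refine Subtype.ext (Equiv.ext fun p => ?_)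
    obtain ⟨a1, a2⟩ := gword_elt hu p
    obtain ⟨b1, b2⟩ := gword_elt hw p
    exact Prod.ext (Fin.ext (by rw [a1, b1, he _ p.1.2])) (by rw [a2, b2, he _ p.1.2])
  set H := Subgroup.closure (eltG '' {i | i < cert.n}) with hH
  have hle : Nat.card H ≤ 2 ^ cert.n := by
    have hok' := cert_ok
    simp only [Schur.TwoCert.ok, Bool.and_eq_true, decide_eq_true_eq] at hok'
    rw [show Nat.card H = (H : Set Four).ncard from Nat.card_coe_set_eq _]
    exact Schur.TwoCert.ncard_closure_le hok'.1.2 eltG
      (fun r hr => hrel r (lt_of_lt_of_le hr hok'.1.1.2)) cert.n le_rfl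
  have hge : 512 ≤ Nat.card H := by
    obtain ⟨hw, hlen, hb, hmono⟩ := two_checks
    simp only [List.all_eq_true, decide_eq_true_eq] at hw hb
    simp only [List.all_eq_true, decide_eq_true_eq, List.mem_range] at hmono
    have hget : ∀ i : Fin 512, twoWords.getD i.val [] ∈ twoWords := fun i => by
      rw [List.getD_eq_getElem _ _ (by omega)]; exact List.getElem_mem _
    rw [← Nat.card_fin 512]
    refine Nat.card_le_card_of_injective (fun i : Fin 512 => (⟨gword eltG (twoWords.getD i.val []),
      gword_mem H _ fun k hk => Subgroup.subset_closure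
        ⟨k, by rw [Set.mem_setOf_eq, cert_n]; exact hw _ (hget i) k hk, rfl⟩⟩ : H)) ?_
    let code : ℕ → ℕ := fun i => twoBase.foldr (fun b s => 4 * (runE (twoWords.getD i []) b).1 +
      (runE (twoWords.getD i []) b).2 + 65536 * s) 0
    have hlt : ∀ i j : Fin 512, i < j → code i.val < code j.val := by
      intro i j hij
      have : ∀ d, i.val + d + 1 < 512 → code i.val < code (i.val + d + 1) := by
        intro d
        induction d with
        | zero => intro h; exact hmono i.val (by omega)
        | succ d ih =>
          intro h
          exact (ih (by omega)).trans (hmono (i.val + d + 1) (by omega))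
      have hij' : i.val < j.val := hij
      have := this (j.val - i.val - 1) (by omega)
      rwa [show i.val + (j.val - i.val - 1) + 1 = j.val by omega] at this
    have hcode : ∀ i j : Fin 512,
        gword eltG (twoWords.getD i.val []) = gword eltG (twoWords.getD j.val []) →
        code i.val = code j.val := by
      intro i j e
      simp only [code]
      refine List.foldr_ext _ _ _ fun b hb' s => ?_
      have h12 : ∀ i : Fin 512, (twoWords.getD i.val []).all (fun k => decide (k < 12)) = true :=
        fun i => List.all_eq_true.2 fun k hk => decide_eq_true (lt_trans (hw _ (hget i) k hk) (by norm_num))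
      obtain ⟨a1, a2⟩ := gword_elt (h12 i) (⟨b, hb b hb'⟩, 0)
      obtain ⟨c1, c2⟩ := gword_elt (h12 j) (⟨b, hb b hb'⟩, 0)
      rw [e] at a1 a2
      have e1 := a1.symm.trans c1
      have e2 := a2.symm.trans c2
      simp only [zero_add] at e1 e2
      have hlt4 : ∀ w : List ℕ, (runE w b).2 < 4 := fun w => by
        rcases runE_lt w b with h | h
        · exact h
        · subst h; exact (by norm_num : (0 : ℕ) < 4)
      have e3 : (runE (twoWords.getD i.val []) b).2 = (runE (twoWords.getD j.val []) b).2 := by
        have e4 := congrArg ZMod.val (show ((runE (twoWords.getD i.val []) b).2 : ZMod 4) =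
          ((runE (twoWords.getD j.val []) b).2 : ZMod 4) from e2)
        rwa [ZMod.val_natCast, ZMod.val_natCast, Nat.mod_eq_of_lt (hlt4 _),
          Nat.mod_eq_of_lt (hlt4 _)] at e4
      rw [e1, e3]
    intro i j hij
    have e := hcode i j (congrArg Subtype.val hij)
    rcases lt_trichotomy i j with h | h | h
    · exact absurd e (hlt i j h).ne
    · exact h
    · exact absurd e.symm (hlt j i h).ne
  have hcard : Nat.card H = 2 ^ cert.n := by
    refine le_antisymm hle ?_
    rw [cert_n]
    exact hge
  refine Schur.TwoCert.not_two_dvd_card_ker hσ cert_ok eltG hrel hcard ?_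
  rw [← hH]
  have := H.card_mul_index
  rw [hcard, cert_n, card_Four] at this
  norm_num at this
  omega

end CfsgLib.M22Cover
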